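import Groth.Agent.LiftLib.AlgebraizePic
import Groth.Agent.S0004

/-! # Algebraizing a compatible system of invertible modules on the thickenings -/

set_option autoImplicit false
set_option linter.style.haveILetI false
set_option backward.isDefEq.respectTransparency false
set_option backward.isDefEq.respectTransparency.types false

universe u

open CategoryTheory CategoryTheory.Limits AlgebraicGeometry Opposite TopologicalSpace

noncomputable section

namespace Groth.Agent.PicThk19

open Groth.Agent.LiftLib Groth.Agent.LiftLib.AlgebraizePic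

theorem exists_algebraization {A : Type u} [CommRing A] [IsLocalRing A] [IsNoetherianRing A]
    [IsAdicComplete (IsLocalRing.maximalIdeal A) A] {X : Scheme.{u}} (g : X ⟶ Spec (CommRingCat.of A))
    [IsProper g] (L : ∀ n, (CohB1.thick g (IsLocalRing.maximalIdeal A) n).Modules)
    (hLinv : ∀ n, PicF.IsInvertible (L n))
    (hcomp : ∀ n, Nonempty ((Scheme.Modules.pullback (CohB1.thickTrans g (IsLocalRing.maximalIdeal A) n)).obj
      (L (n + 1)) ≅ L n)) :
    ∃ M : X.Modules, PicF.IsInvertible M ∧
      ∀ n, Nonempty ((Scheme.Modules.pullback (CohB1.thickι g (IsLocalRing.maximalIdeal A) n)).obj M ≅ L n) := by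
  letI : X.Over (Spec (CommRingCat.of A)) := ⟨g⟩
  haveI : IsProper (X ↘ Spec (CommRingCat.of A)) := ‹IsProper g›
  let f := X ↘ Spec (CommRingCat.of A)
  let m := IsLocalRing.maximalIdeal A
  have hex := (Groth.Agent.S0004.result A (IsLocalRing.maximalIdeal A) X).2
  haveI : IsLocallyNoetherian X := LocallyOfFiniteType.isLocallyNoetherian f
  let P : ℕ → Scheme.{u} := fun n => CohB1.thick f m n
  let ι : ∀ n, P n ⟶ X := fun n => CohB1.thickι f m n
  let ts : ∀ n, P n ⟶ P (n + 1) := fun n => CohB1.thickTrans f m n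
  haveI hci : ∀ n, IsClosedImmersion (ι n) := fun n => by
    haveI : IsClosedImmersion (CohB1.specQuot m n) :=
      IsClosedImmersion.spec_of_surjective _ Ideal.Quotient.mk_surjective
    exact MorphismProperty.pullback_fst f (CohB1.specQuot m n) inferInstance
  have hcut : ∀ n, FormalFun.IsCut (ι n) (m ^ (n + 1)) := fun n =>
    FormalFun.isCut_of_isPullback (ι n) m n (IsPullback.of_hasPullback _ _)
  have htι : ∀ n, ts n ≫ ι (n + 1) = ι n := fun n => (pullback.lift_fst _ _ _).trans (Category.comp_id _)
  haveI : ∀ n, IsLocallyNoetherian (P n) := fun n => LocallyOfFiniteType.isLocallyNoetherian (ι n)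
  let e : ∀ n, (Scheme.Modules.pullback (ι n)).obj
      ((Scheme.Modules.pushforward (ι (n + 1))).obj (L (n + 1))) ≅ (L n) := fun n =>
    (Scheme.Modules.pullbackCongr (htι n).symm).app _ ≪≫
      ((Scheme.Modules.pullbackComp (ts n) (ι (n + 1))).app _).symm ≪≫
      (Scheme.Modules.pullback (ts n)).mapIso
        (asIso ((Scheme.Modules.pullbackPushforwardAdjunction (ι (n + 1))).counit.app (L (n + 1)))) ≪≫
      (hcomp n).some
  obtain ⟨G, hG, hGobj⟩ := Algebraize.exists_formal ι hcut (fun n => (L n))
    (fun n => Cube.Seesaw.isCoh_of_invertible (hLinv n)) e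
  obtain ⟨M, hM, ⟨φ⟩⟩ := hex G hG
  have hMn : ∀ n, Nonempty ((Scheme.Modules.pullback (ι n)).obj M ≅ (L n)) := fun n => by
    obtain ⟨θ, -⟩ := (hcut n).exists_iso_unit M
    exact ⟨(asIso ((Scheme.Modules.pullbackPushforwardAdjunction (ι n)).counit.app _)).symm ≪≫
      (Scheme.Modules.pullback (ι n)).mapIso (θ.symm ≪≫ φ.app (op n) ≪≫ (hGobj n).some) ≪≫
      asIso ((Scheme.Modules.pullbackPushforwardAdjunction (ι n)).counit.app _)⟩
  -- invertibility
  have hclosed : ∀ x, f x = IsLocalRing.closedPoint A →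
      Nonempty (Module.Basis (Fin 1) (X.presheaf.stalk x) (M.presheaf.stalk x)) := by
    intro x hx
    have hz : ∀ n, ∃ z : P n, ι n z = x := fun n => by
      have h : x ∈ Set.range (ι n) := by
        rw [show Set.range (ι n) = f ⁻¹' Set.range (CohB1.specQuot m n) from
          Scheme.Pullback.range_fst f (CohB1.specQuot m n), Set.mem_preimage, hx]
        haveI : Nontrivial (A ⧸ m ^ (n + 1)) := Ideal.Quotient.nontrivial_iff.2 fun h =>
          (IsLocalRing.maximalIdeal.isMaximal A).ne_top (top_unique (h ▸ Ideal.pow_le_self n.succ_ne_zero))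
        haveI : IsLocalRing (A ⧸ m ^ (n + 1)) :=
          IsLocalRing.of_surjective' (Ideal.Quotient.mk (m ^ (n + 1))) Ideal.Quotient.mk_surjective
        haveI : IsLocalHom (Ideal.Quotient.mk (m ^ (n + 1))) :=
          IsLocalHom.of_surjective _ Ideal.Quotient.mk_surjective
        exact ⟨IsLocalRing.closedPoint _, IsLocalRing.comap_closedPoint (Ideal.Quotient.mk (m ^ (n + 1)))⟩
      exact h
    choose z hz using hz
    refine Algebraize.exists_basis_stalk_of_levels hM ι
      (fun n => PicCl.isInvertible_of_iso (hMn n).some.symm (hLinv n)) x z hz fun n => ?_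
    exact Algebraize.ker_stalkMap_le_pow (I := m) (ι n) (ι 0) (hcut n)
      (by simpa using hcut 0) (z n) (z 0) ((hz 0).trans (hz n).symm)
  choose V hxV hV using fun x (hx : f x = IsLocalRing.closedPoint A) =>
    Algebraize.exists_open_basis_stalk hM x (hclosed x hx)
  let W : X.Opens := ⨆ x, ⨆ hx, V x hx
  have hW : W = ⊤ := eq_top_of_closedFibre f W fun x hx =>
    Opens.mem_iSup.2 ⟨x, Opens.mem_iSup.2 ⟨hx, hxV x hx⟩⟩
  haveI : M.IsQuasicoherent := hM.1
  haveI : SheafOfModules.IsFiniteType.{u} M := hM.2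
  have hMinv : PicF.IsInvertible M :=
    LFDesc.isInvertible_of_stalks M (fun U hU => QCoh.finite_sections_of_isFiniteType M hU) fun x => by
      obtain ⟨y, hy⟩ := Opens.mem_iSup.1 (show x ∈ W from hW ▸ trivial)
      obtain ⟨hy', hxy⟩ := Opens.mem_iSup.1 hy
      exact hV y hy' x hxy
  exact ⟨M, hMinv, hMn⟩

end Groth.Agent.PicThk19
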