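import Groth.Agent.PicThk19.Units
import Groth.Agent.UnitsThick.Flat
import Groth.Agent.DualAbs.ExtCodim
import Groth.Agent.DimIneq.Basic
import Groth.Prelude.Def_CohB1

/-! # The thickenings of the closed fibre -/

set_option autoImplicit false
set_option linter.style.haveILetI false
set_option backward.isDefEq.respectTransparency false
set_option backward.isDefEq.respectTransparency.types false

universe u

open CategoryTheory CategoryTheory.Limits AlgebraicGeometry Opposite TopologicalSpace

noncomputable section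

namespace Groth.Agent.PicThk19

open Groth.Agent.UnitsThick Groth.Agent.DefSchLib

variable {A : Type u} [CommRing A] (p : ℕ) {X : Scheme.{u}} (g : X ⟶ Spec (CommRingCat.of A))

/-- The ideal of `p`. -/
abbrev I0 : Ideal A := Ideal.span {(p : A)}

/-- The quotient maps of the base. -/
abbrev qf {m n : ℕ} (h : m ≤ n) : A ⧸ I0 (A := A) p ^ (n + 1) →+* A ⧸ I0 (A := A) p ^ (m + 1) :=
  Ideal.Quotient.factor (Ideal.pow_le_pow_right (Nat.succ_le_succ h))

lemma spec_qf {m n : ℕ} (h : m ≤ n) :
    Spec.map (CommRingCat.ofHom (qf p h)) ≫ CohB1.specQuot (I0 (A := A) p) n = CohB1.specQuot (I0 (A := A) p) m := by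
  rw [CohB1.specQuot, CohB1.specQuot, ← Spec.map_comp, ← CommRingCat.ofHom_comp, Ideal.Quotient.factor_comp_mk]

/-- The inclusions of the thickenings. -/
def trs {m n : ℕ} (h : m ≤ n) : CohB1.thick g (I0 p) m ⟶ CohB1.thick g (I0 p) n :=
  pullback.lift (pullback.fst _ _) (pullback.snd _ _ ≫ Spec.map (CommRingCat.ofHom (qf p h)))
    (by rw [Category.assoc, spec_qf p h]; exact pullback.condition)

lemma trs_fst {m n : ℕ} (h : m ≤ n) : trs p g h ≫ CohB1.thickι g (I0 p) n = CohB1.thickι g (I0 p) m :=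
  pullback.lift_fst _ _ _

lemma trs_snd {m n : ℕ} (h : m ≤ n) : trs p g h ≫ CohB1.thickToBase g (I0 p) n =
    CohB1.thickToBase g (I0 p) m ≫ Spec.map (CommRingCat.ofHom (qf p h)) :=
  pullback.lift_snd _ _ _

lemma isClosedImmersion_ι (n : ℕ) : IsClosedImmersion (CohB1.thickι g (I0 p) n) := by
  haveI : IsClosedImmersion (CohB1.specQuot (I0 (A := A) p) n) :=
    IsClosedImmersion.spec_of_surjective _ Ideal.Quotient.mk_surjective
  exact MorphismProperty.pullback_fst g (CohB1.specQuot (I0 (A := A) p) n) inferInstance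

lemma isClosedImmersion_trs {m n : ℕ} (h : m ≤ n) : IsClosedImmersion (trs p g h) := by
  haveI := isClosedImmersion_ι p g n
  haveI := isClosedImmersion_ι p g m
  have : IsClosedImmersion (trs p g h ≫ CohB1.thickι g (I0 p) n) := by rw [trs_fst]; infer_instance
  exact IsClosedImmersion.of_comp _ (CohB1.thickι g (I0 p) n)

lemma trs_self {n : ℕ} (h : n ≤ n) : trs p g h = 𝟙 _ := by
  haveI := isClosedImmersion_ι p g n
  rw [← cancel_mono (CohB1.thickι g (I0 p) n), trs_fst, Category.id_comp]

lemma trs_trs {l m n : ℕ} (h : l ≤ m) (h' : m ≤ n) : trs p g h ≫ trs p g h' = trs p g (h.trans h') := by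
  haveI := isClosedImmersion_ι p g n
  rw [← cancel_mono (CohB1.thickι g (I0 p) n), Category.assoc, trs_fst, trs_fst, trs_fst]

lemma trs_succ (n : ℕ) : trs p g (Nat.le_succ n) = CohB1.thickTrans g (I0 p) n := by
  haveI := isClosedImmersion_ι p g (n + 1)
  rw [← cancel_mono (CohB1.thickι g (I0 p) (n + 1)), trs_fst]
  exact ((pullback.lift_fst _ _ _).trans (Category.comp_id _)).symm

lemma isPullback_trs {m n : ℕ} (h : m ≤ n) :
    IsPullback (trs p g h) (CohB1.thickToBase g (I0 p) m) (CohB1.thickToBase g (I0 p) n)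
      (Spec.map (CommRingCat.ofHom (qf p h))) := by
  refine IsPullback.of_right (h₁₂ := CohB1.thickι g (I0 p) n) (v₁₃ := g)
    (h₂₂ := CohB1.specQuot (I0 (A := A) p) n) ?_ (trs_snd p g h) (IsPullback.of_hasPullback _ _)
  rw [trs_fst, spec_qf p h]
  exact IsPullback.of_hasPullback _ _

lemma cast_pow (n : ℕ) : (p : Γ(CohB1.thick g (I0 p) n, ⊤)) ^ (n + 1) = 0 := by
  have h0 : (p : A ⧸ I0 (A := A) p ^ (n + 1)) ^ (n + 1) = 0 := by
    rw [← map_natCast (Ideal.Quotient.mk (I0 (A := A) p ^ (n + 1))), ← map_pow, Ideal.Quotient.eq_zero_iff_mem]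
    exact Ideal.pow_mem_pow (Ideal.mem_span_singleton_self _) _
  have h1 := congrArg (str (CohB1.thickToBase g (I0 p) n) ⊤) h0
  rwa [map_pow, map_natCast, map_zero] at h1

theorem cut_trs {m n : ℕ} (h : m ≤ n) : Cut p (trs p g h) (m + 1) := by
  have hs := cl_of_isPullback (e := qf p h) (Ideal.Quotient.factor_surjective _) (isPullback_trs p g h)
  refine ⟨hs.surj, fun W hW a => ?_⟩
  rw [hs.ker W hW a]
  have e1 : RingHom.ker (qf (A := A) p h) = Ideal.span {(p : A ⧸ I0 (A := A) p ^ (n + 1)) ^ (m + 1)} := by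
    rw [Ideal.Quotient.factor_ker]
    simp only [Ideal.map_span, Set.image_singleton, Ideal.span_singleton_pow, map_pow, map_natCast]
  rw [e1, Ideal.map_span, Set.image_singleton, map_pow, map_natCast, Ideal.mem_span_singleton']
  exact ⟨fun ⟨c, hc⟩ => ⟨c, hc.symm.trans (mul_comm _ _)⟩, fun ⟨c, hc⟩ => ⟨c, (mul_comm _ _).trans hc.symm⟩⟩

variable [IsNoetherianRing A] [IsLocalRing A]

theorem dim_le_one [IsProper g] [SmoothOfRelativeDimension 1 g]
    (hmax : IsLocalRing.maximalIdeal A = I0 p) (n : ℕ) :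
    NoetherianSpace (CohB1.thick g (I0 (A := A) p) n) ∧ topologicalKrullDim (CohB1.thick g (I0 (A := A) p) n) ≤ 1 := by
  have hN : ∀ k, AlgebraicGeometry.IsNoetherian (CohB1.thick g (I0 (A := A) p) k) := fun k => by
    haveI := isClosedImmersion_ι p g k
    haveI : IsLocallyNoetherian X := LocallyOfFiniteType.isLocallyNoetherian g
    haveI : CompactSpace X := QuasiCompact.compactSpace_of_compactSpace g
    haveI : IsLocallyNoetherian (CohB1.thick g (I0 (A := A) p) k) :=
      LocallyOfFiniteType.isLocallyNoetherian (CohB1.thickι g (I0 p) k)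
    haveI : CompactSpace (CohB1.thick g (I0 (A := A) p) k) :=
      QuasiCompact.compactSpace_of_compactSpace (CohB1.thickι g (I0 p) k)
    exact ⟨⟩
  haveI := hN n
  refine ⟨inferInstance, ?_⟩
  haveI := isClosedImmersion_trs p g (Nat.zero_le n)
  haveI : Surjective (trs p g (Nat.zero_le n)) := by
    haveI : Surjective (Spec.map (CommRingCat.ofHom (qf (A := A) p (Nat.zero_le n)))) := ⟨by
      change Function.Surjective (PrimeSpectrum.comap (qf (A := A) p (Nat.zero_le n)))
      intro P
      have hle : RingHom.ker (qf (A := A) p (Nat.zero_le n)) ≤ P.asIdeal := by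
        intro a ha
        obtain ⟨b, rfl⟩ := Ideal.Quotient.mk_surjective a
        rw [RingHom.mem_ker, Ideal.Quotient.factor_mk, Ideal.Quotient.eq_zero_iff_mem, zero_add, pow_one] at ha
        refine P.isPrime.mem_of_pow_mem (n + 1) ?_
        rw [← map_pow, Ideal.Quotient.eq_zero_iff_mem.2 (Ideal.pow_mem_pow ha _)]
        exact Submodule.zero_mem _
      have hrange := range_comap_of_surjective _ (qf (A := A) p (Nat.zero_le n))
        (Ideal.Quotient.factor_surjective _)
      have : P ∈ Set.range (PrimeSpectrum.comap (qf (A := A) p (Nat.zero_le n))) := by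
        rw [hrange]; exact hle
      exact this⟩
    exact MorphismProperty.of_isPullback (isPullback_trs p g (Nat.zero_le n)).flip inferInstance
  let e := (Topology.IsClosedEmbedding.isEmbedding (trs p g (Nat.zero_le n)).isClosedEmbedding).toHomeomorphOfSurjective
    (trs p g (Nat.zero_le n)).surjective
  rw [← IsHomeomorph.topologicalKrullDim_eq e e.isHomeomorph]
  haveI : (I0 (A := A) p ^ (0 + 1)).IsMaximal := by
    rw [zero_add, pow_one, ← hmax]
    exact IsLocalRing.maximalIdeal.isMaximal A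
  letI : Field (A ⧸ I0 (A := A) p ^ (0 + 1)) := Ideal.Quotient.field _
  haveI : SmoothOfRelativeDimension 1 (CohB1.thickToBase g (I0 p) 0) :=
    (smoothOfRelativeDimension_isStableUnderBaseChange (n := 1)).of_isPullback (IsPullback.of_hasPullback g (CohB1.specQuot (I0 (A := A) p) 0)) inferInstance
  letI : (CohB1.thick g (I0 (A := A) p) 0).Over (Spec (CommRingCat.of (A ⧸ I0 (A := A) p ^ (0 + 1)))) :=
    ⟨CohB1.thickToBase g (I0 p) 0⟩
  haveI : SmoothOfRelativeDimension 1
      (CohB1.thick g (I0 (A := A) p) 0 ↘ Spec (CommRingCat.of (A ⧸ I0 (A := A) p ^ (0 + 1)))) :=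
    ‹SmoothOfRelativeDimension 1 (CohB1.thickToBase g (I0 p) 0)›
  rw [DimIneq.topologicalKrullDim_eq_iSup_stalk]
  refine iSup_le fun x => ?_
  obtain ⟨a, b, ha, -, hab⟩ := DualAbs.ringKrullDim_stalk_smooth (A ⧸ I0 (A := A) p ^ (0 + 1)) (n := 1) x
  rw [ha]
  exact_mod_cast (show a ≤ 1 by omega)

end Groth.Agent.PicThk19
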