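import Groth.Agent.PicThk19.Geom
import Groth.Agent.PicThk19.Algebraize
import Groth.Agent.PicThickTriv.Main
import Groth.Agent.PicLaw.Calc

/-! # Restriction of Picard groups to the thickenings of the closed fibre, modulo powers of `p` -/

set_option autoImplicit false
set_option linter.style.haveILetI false
set_option backward.isDefEq.respectTransparency false
set_option backward.isDefEq.respectTransparency.types false

universe u

open CategoryTheory CategoryTheory.Limits AlgebraicGeometry Opposite TopologicalSpace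

noncomputable section

namespace Groth.Agent.PicThk19

open Groth.Agent.PicLaw (pl pullMul pl_comp pl_congr pl_id)
open scoped Groth.Agent.PicLaw

variable {A : Type u} [CommRing A] [IsNoetherianRing A] [IsLocalRing A] {p : ℕ}
  [IsAdicComplete (IsLocalRing.maximalIdeal A) A]
  {X : Scheme.{u}} (g : X ⟶ Spec (CommRingCat.of A)) [IsProper g]

lemma pl_trs_trs {l m n : ℕ} (h : l ≤ m) (h' : m ≤ n) (c : PicLoc.PicSet (CohB1.thick g (I0 (A := A) p) n)) :
    pl (trs p g h) (pl (trs p g h') c) = pl (trs p g (h.trans h')) c := by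
  rw [← pl_comp, pl_congr (trs_trs p g h h')]

lemma pl_trs_self {n : ℕ} (h : n ≤ n) (c : PicLoc.PicSet (CohB1.thick g (I0 (A := A) p) n)) :
    pl (trs p g h) c = c := by
  rw [pl_congr (trs_self p g h), pl_id]

lemma pl_trs_ι {m n : ℕ} (h : m ≤ n) (a : PicLoc.PicSet X) :
    pl (trs p g h) (pl (CohB1.thickι g (I0 p) n) a) = pl (CohB1.thickι g (I0 p) m) a := by
  rw [← pl_comp, pl_congr (trs_fst p g h)]

/-- A compatible system of classes comes from `X`. -/
theorem exists_of_system (hmax : IsLocalRing.maximalIdeal A = I0 p)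
    (D : ∀ n, PicLoc.PicSet (CohB1.thick g (I0 (A := A) p) n))
    (hD : ∀ n, pl (trs p g (Nat.le_succ n)) (D (n + 1)) = D n) :
    ∃ a : PicLoc.PicSet X, ∀ n, pl (CohB1.thickι g (I0 p) n) a = D n := by
  have key : ∀ (I : Ideal A) (_ : I = IsLocalRing.maximalIdeal A) (L : ∀ n, (CohB1.thick g I n).Modules),
      (∀ n, PicF.IsInvertible (L n)) →
      (∀ n, Nonempty ((Scheme.Modules.pullback (CohB1.thickTrans g I n)).obj (L (n + 1)) ≅ L n)) →
      ∃ M : X.Modules, PicF.IsInvertible M ∧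
        ∀ n, Nonempty ((Scheme.Modules.pullback (CohB1.thickι g I n)).obj M ≅ L n) := by
    rintro I rfl L h1 h2
    exact exists_algebraization g L h1 h2
  choose L hL hLD using fun n => PicGrp.exists_eq_cls (D n)
  obtain ⟨M, hM, hMn⟩ := key (I0 p) hmax.symm L hL (fun n => by
    have h := hD n
    rw [hLD (n + 1), hLD n, pl_congr (trs_succ p g n), PicGrp.pullHom_cls, PicGrp.cls_eq_cls_iff] at h
    exact h)
  refine ⟨PicGrp.cls M hM, fun n => ?_⟩
  rw [PicGrp.pullHom_cls, hLD n, PicGrp.cls_eq_cls_iff]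
  exact hMn n

/-- Classes trivial on all thickenings are trivial. -/
theorem eq_one_of_forall (hmax : IsLocalRing.maximalIdeal A = I0 p) (a : PicLoc.PicSet X)
    (h : ∀ n, pl (CohB1.thickι g (I0 p) n) a = 1) : a = 1 := by
  obtain ⟨L, hL, rfl⟩ := PicGrp.exists_eq_cls a
  rw [PicGrp.cls_eq_one_iff]
  refine PicThickTriv.main (I0 p) hmax.ge g L hL fun n => ?_
  have h1 := h n
  rwa [PicGrp.pullHom_cls, PicGrp.cls_eq_one_iff] at h1

variable [SmoothOfRelativeDimension 1 g]

theorem exists_extend (hp : p.Prime) (hmax : IsLocalRing.maximalIdeal A = I0 p) {m n : ℕ} (h : m ≤ n)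
    (z : PicLoc.PicSet (CohB1.thick g (I0 (A := A) p) m)) :
    ∃ z' : PicLoc.PicSet (CohB1.thick g (I0 (A := A) p) n), pl (trs p g h) z' = z := by
  obtain ⟨hN, hdim⟩ := dim_le_one p g hmax n
  haveI := isClosedImmersion_trs p g h
  exact pic_surjective (cast_pow p g n) hdim (trs p g h) m.succ_pos (cut_trs p g h) (pullMul _) z

theorem surjective (hp : p.Prime) (hmax : IsLocalRing.maximalIdeal A = I0 p) (n : ℕ)
    (z : PicLoc.PicSet (CohB1.thick g (I0 (A := A) p) n)) :
    ∃ a : PicLoc.PicSet X, pl (CohB1.thickι g (I0 p) n) a = z := by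
  choose next hnext using fun (m : ℕ) (y : PicLoc.PicSet (CohB1.thick g (I0 (A := A) p) (n + m))) =>
    exists_extend g hp hmax (Nat.le_succ (n + m)) y
  let Z : ∀ m, PicLoc.PicSet (CohB1.thick g (I0 (A := A) p) (n + m)) := fun m => Nat.rec z next m
  have hZ : ∀ m, pl (trs p g (Nat.le_succ (n + m))) (Z (m + 1)) = Z m := fun m => hnext m (Z m)
  obtain ⟨a, ha⟩ := exists_of_system g hmax (fun m => pl (trs p g (Nat.le_add_left m n)) (Z m)) (fun m => by
    show pl (trs p g (Nat.le_succ m)) (pl (trs p g _) (Z (m + 1))) = pl (trs p g _) (Z m)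
    rw [← hZ m, pl_trs_trs, pl_trs_trs]
    rfl)
  have hall : ∀ m, pl (trs p g (Nat.le_add_right n m)) (Z m) = z := fun m => by
    induction m with
    | zero => exact pl_trs_self g _ _
    | succ m ih =>
      rw [← ih, ← hZ m, pl_trs_trs]
      rfl
  exact ⟨a, by rw [ha n]; exact hall n⟩

theorem exists_pow_root (hp : p.Prime) (hp2 : 2 < p) (hmax : IsLocalRing.maximalIdeal A = I0 p) (i : ℕ)
    (a : PicLoc.PicSet X) (hb : ∃ b, b ^ (p ^ i) = pl (CohB1.thickι g (I0 p) i) a) :
    ∃ a' : PicLoc.PicSet X, a' ^ (p ^ i) = a := by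
  obtain ⟨b, hb⟩ := hb
  obtain ⟨b', hb'⟩ := surjective g hp hmax i b
  let a₁ := a * (b' ^ (p ^ i))⁻¹
  have h1 : pl (CohB1.thickι g (I0 p) i) a₁ = 1 := by
    rw [map_mul, map_inv, map_pow, hb', hb, mul_inv_cancel]
  let Y := fun k => CohB1.thick g (I0 (A := A) p) (i + k)
  have hstep : ∀ (k : ℕ) (d : PicLoc.PicSet (Y k)), d ^ (p ^ i) = pl (CohB1.thickι g (I0 p) (i + k)) a₁ →
      ∃ d' : PicLoc.PicSet (Y (k + 1)), d' ^ (p ^ i) = pl (CohB1.thickι g (I0 p) (i + (k + 1))) a₁ ∧
        pl (trs p g (show k ≤ i + (k + 1) by omega)) d' = pl (trs p g (Nat.le_add_left k i)) d := by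
    intro k d hd
    obtain ⟨d₀, hd₀⟩ := exists_extend g hp hmax (show i + k ≤ i + (k + 1) by omega) d
    let x := pl (CohB1.thickι g (I0 p) (i + (k + 1))) a₁ * (d₀ ^ (p ^ i))⁻¹
    obtain ⟨hN, hdim⟩ := dim_le_one p g hmax (i + (k + 1))
    haveI := isClosedImmersion_trs p g (show i + k ≤ i + (k + 1) by omega)
    have hx : pl (trs p g (show i + k ≤ i + (k + 1) by omega)) x = 1 := by
      rw [map_mul, map_inv, map_pow, hd₀, hd, pl_trs_ι g, mul_inv_cancel]
    have hcut : Cut p (trs p g (show i + k ≤ i + (k + 1) by omega)) (k + 1 + i) := by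
      rw [show k + 1 + i = i + k + 1 by omega]
      exact cut_trs p g _
    obtain ⟨e, he, hex⟩ := exists_root_in_ker hp hp2 (cast_pow p g (i + (k + 1))) hdim
      (trs p g (show k ≤ i + (k + 1) by omega)) (trs p g (show i + k ≤ i + (k + 1) by omega))
      (cut_trs p g _) hcut (pullMul _) (pullMul _) x hx
    refine ⟨d₀ * e, ?_, ?_⟩
    · rw [mul_pow, hex, mul_comm (d₀ ^ _), inv_mul_cancel_right]
    · rw [map_mul, show pl (trs p g (show k ≤ i + (k + 1) by omega)) e = 1 from he, mul_one, ← hd₀,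
        pl_trs_trs]
  choose next hnext1 hnext2 using hstep
  let Dd : ∀ k, {d : PicLoc.PicSet (Y k) // d ^ (p ^ i) = pl (CohB1.thickι g (I0 p) (i + k)) a₁} :=
    fun k => Nat.rec ⟨1, by rw [one_pow]; exact h1.symm⟩ (fun k d => ⟨next k d.1 d.2, hnext1 k d.1 d.2⟩) k
  obtain ⟨M, hM⟩ := exists_of_system g hmax (fun k => pl (trs p g (Nat.le_add_left k i)) (Dd k).1) (fun k => by
    have h2 : pl (trs p g (show k ≤ i + (k + 1) by omega)) (Dd (k + 1)).1 =
        pl (trs p g (Nat.le_add_left k i)) (Dd k).1 := hnext2 k (Dd k).1 (Dd k).2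
    show pl (trs p g (Nat.le_succ k)) (pl (trs p g (Nat.le_add_left (k + 1) i)) (Dd (k + 1)).1) =
      pl (trs p g (Nat.le_add_left k i)) (Dd k).1
    rw [pl_trs_trs, ← h2])
  have h3 : a₁ * (M ^ (p ^ i))⁻¹ = 1 := eq_one_of_forall g hmax _ fun k => by
    rw [map_mul, map_inv, map_pow, hM k, ← map_pow, (Dd k).2, pl_trs_ι g, mul_inv_cancel]
  refine ⟨b' * M, ?_⟩
  rw [mul_inv_eq_one] at h3
  rw [mul_pow, ← h3]
  show b' ^ p ^ i * (a * (b' ^ p ^ i)⁻¹) = a
  rw [mul_comm, inv_mul_cancel_right]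

end Groth.Agent.PicThk19
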