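import Mathlib

/-! # `p`-th roots of principal units when `p` is nilpotent -/

set_option autoImplicit false

universe u

namespace Groth.Agent.PicThk19

variable {R : Type u} [CommRing R] {p : ℕ}

/-- `(1 + p^(s+1) y)^p = 1 + p^(s+2) y + p^(s+3) r`. -/
lemma pow_one_add (hp : p.Prime) (hp2 : 2 < p) (s : ℕ) (y : R) :
    ∃ r : R, (1 + (p : R) ^ (s + 1) * y) ^ p = 1 + (p : R) ^ (s + 2) * y + (p : R) ^ (s + 3) * r := by
  have h : ∀ k ∈ Finset.range (p + 1), 2 ≤ k → (p : ℕ) ^ (s + 3) ∣ p.choose k * p ^ ((s + 1) * k) := by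
    intro k hk hk2
    rcases Nat.lt_or_ge k p with hkp | hkp
    · refine (pow_dvd_pow p (show s + 3 ≤ 1 + (s + 1) * k by nlinarith)).trans ?_
      rw [pow_add, pow_one]
      exact Nat.mul_dvd_mul_right (hp.dvd_choose_self (by omega) hkp) _
    · have : k = p := by have := Finset.mem_range.1 hk; omega
      subst this
      exact (pow_dvd_pow _ (show s + 3 ≤ (s + 1) * k by nlinarith)).trans (dvd_mul_left _ _)
  have hex : ∀ k ∈ Finset.Ico 2 (p + 1), ∃ r : R,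
      (((p : R) ^ (s + 1) * y) ^ k * 1 ^ (p - k) * (p.choose k : R)) = (p : R) ^ (s + 3) * r := by
    intro k hk
    obtain ⟨hk2, hk'⟩ := Finset.mem_Ico.1 hk
    obtain ⟨c, hc⟩ := h k (Finset.mem_range.2 hk') hk2
    refine ⟨(c : R) * y ^ k, ?_⟩
    have h2 : ((p.choose k * p ^ ((s + 1) * k) : ℕ) : R) = ((p ^ (s + 3) * c : ℕ) : R) := congrArg _ hc
    push_cast at h2
    rw [one_pow, mul_one, mul_pow, ← pow_mul, ← mul_assoc, ← h2]
    ring
  choose! r hr using hex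
  refine ⟨∑ k ∈ Finset.Ico 2 (p + 1), r k, ?_⟩
  rw [add_comm, add_pow, Finset.range_eq_Ico, ← Finset.sum_Ico_consecutive _ (show 0 ≤ 2 by omega) (by omega : 2 ≤ p + 1),
    Finset.sum_congr rfl (fun k hk => hr k hk), ← Finset.mul_sum]
  have h01 : Finset.Ico 0 2 = {0, 1} := rfl
  rw [h01, Finset.sum_pair (by decide)]
  simp only [pow_zero, one_pow, Nat.choose_zero_right, Nat.cast_one, Nat.choose_one_right, pow_one]
  ring

/-- Principal units of level `s + 2` are `p`-th powers of those of level `s + 1`. -/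
lemma exists_root (hp : p.Prime) (hp2 : 2 < p) {N : ℕ} (hN : (p : R) ^ N = 0) :
    ∀ (s : ℕ) (x : R), ∃ y : R, (1 + (p : R) ^ (s + 1) * y) ^ p = 1 + (p : R) ^ (s + 2) * x := by
  suffices h : ∀ (j s : ℕ), N ≤ s + 2 + j → ∀ x : R, ∃ y : R, (1 + (p : R) ^ (s + 1) * y) ^ p = 1 + (p : R) ^ (s + 2) * x from
    fun s => h N s (by omega)
  intro j
  induction j with
  | zero =>
    intro s hs x
    refine ⟨0, ?_⟩
    obtain ⟨d, hd⟩ := Nat.le.dest (show N ≤ s + 2 by omega)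
    simp [← hd, pow_add, hN]
  | succ j ih =>
    intro s hs x
    obtain ⟨r, hr⟩ := pow_one_add hp hp2 s x
    have hu : IsUnit (1 + (p : R) ^ (s + 2) * x + (p : R) ^ (s + 3) * r) := by
      rw [← hr]
      exact (((Commute.all _ _).isNilpotent_mul_right (IsNilpotent.pow_of_pos ⟨N, hN⟩ (by omega))).isUnit_one_add).pow _
    obtain ⟨v, hv⟩ := hu
    obtain ⟨y, hy⟩ := ih (s + 1) (by omega) (-r * (v⁻¹ : Rˣ))
    refine ⟨x + (p : R) * y + (p : R) ^ (s + 2) * x * y, ?_⟩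
    have e : 1 + (p : R) ^ (s + 1) * (x + (p : R) * y + (p : R) ^ (s + 2) * x * y) =
        (1 + (p : R) ^ (s + 1) * x) * (1 + (p : R) ^ (s + 1 + 1) * y) := by ring
    rw [e, mul_pow, hy, hr]
    have hv' : (1 + (p : R) ^ (s + 2) * x + (p : R) ^ (s + 3) * r) * ((v⁻¹ : Rˣ) : R) = 1 := by
      rw [← hv, v.mul_inv]
    linear_combination (-(p : R) ^ (s + 3) * r) * hv'

lemma exists_root_iter (hp : p.Prime) (hp2 : 2 < p) {N : ℕ} (hN : (p : R) ^ N = 0) :
    ∀ (i s : ℕ) (x : R), ∃ y : R, (1 + (p : R) ^ (s + 1) * y) ^ (p ^ i) = 1 + (p : R) ^ (s + 1 + i) * x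
  | 0, s, x => ⟨x, by simp⟩
  | i + 1, s, x => by
    obtain ⟨y₁, hy₁⟩ := exists_root hp hp2 hN (s + i) x
    obtain ⟨y, hy⟩ := exists_root_iter hp hp2 hN i s y₁
    refine ⟨y, ?_⟩
    rw [pow_succ p i, pow_mul, hy, show s + 1 + i = s + i + 1 by omega, hy₁]
    congr 3
    omega

lemma exists_pow_form (hp : p.Prime) (hp2 : 2 < p) :
    ∀ (i s : ℕ) (y : R), ∃ x : R, (1 + (p : R) ^ (s + 1) * y) ^ (p ^ i) = 1 + (p : R) ^ (s + 1 + i) * x
  | 0, s, y => ⟨y, by simp⟩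
  | i + 1, s, y => by
    obtain ⟨x₁, hx₁⟩ := exists_pow_form hp hp2 i s y
    obtain ⟨r, hr⟩ := pow_one_add hp hp2 (s + i) x₁
    refine ⟨x₁ + (p : R) * r, ?_⟩
    rw [pow_succ p i, pow_mul, hx₁, show s + 1 + i = s + i + 1 by omega, hr]
    ring

end Groth.Agent.PicThk19
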