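import Groth.Agent.PicThk19.Ring
import Groth.Agent.UnitsThick.PicIso
import Groth.Agent.UnitsThick.LES
import Groth.Agent.S0458

/-! # `p`-th roots in kernels of restriction maps of Picard groups of one-dimensional thickenings -/

set_option autoImplicit false
set_option linter.style.haveILetI false
set_option backward.isDefEq.respectTransparency false
set_option backward.isDefEq.respectTransparency.types false

universe u

open CategoryTheory CategoryTheory.Limits AlgebraicGeometry Opposite TopologicalSpace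

noncomputable section

namespace Groth.Agent.PicThk19

open Groth.Agent.UnitsThick Groth.Agent.PicUnits Groth.Agent.CohTop.SubStalk Groth.Agent.CohTop.Vanishing
  Groth.Agent.CohTop.Basic

variable {Y : Scheme.{u}} (p : ℕ)

/-- `i` is cut out by `p ^ s` on affine opens. -/
structure Cut {Z : Scheme.{u}} (i : Z ⟶ Y) (s : ℕ) : Prop where
  surj : ∀ W : Y.Opens, IsAffineOpen W → Function.Surjective (i.app W).hom
  ker : ∀ W : Y.Opens, IsAffineOpen W → ∀ a, i.app W a = 0 ↔ ∃ c, a = (p : Γ(Y, W)) ^ s * c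

lemma val_nsmul {Z : Scheme.{u}} {U : Z.Opens} (n : ℕ) (s : (UnitsSh.unitsAb Z).obj.obj (op U)) :
    val (n • s) = val s ^ n := by
  induction n with
  | zero => rw [zero_nsmul, pow_zero]; exact val_zero
  | succ n ih =>
    rw [succ_nsmul, pow_succ, ← ih]
    exact congrArg Units.val (UnitsSh.unitOfSect_add _ _)

lemma natCast_res {V U : Y.Opens} (h : V ≤ U) :
    Y.presheaf.map (homOfLE h).op (p : Γ(Y, U)) = (p : Γ(Y, V)) :=
  map_natCast (Y.presheaf.map (homOfLE h).op).hom p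

/-- Multiplication by `n` on units. -/
abbrev mulN (Y : Scheme.{u}) (n : ℕ) : UnitsSh.unitsAb Y ⟶ UnitsSh.unitsAb Y := n • 𝟙 _

lemma mulN_app (n : ℕ) {U : Y.Opens} (s : (UnitsSh.unitsAb Y).obj.obj (op U)) :
    ((mulN Y n).hom.app (op U)).hom s = n • s := by
  induction n with
  | zero => rw [mulN, zero_nsmul, zero_nsmul]; rfl
  | succ n ih =>
    rw [mulN, succ_nsmul, succ_nsmul, ← ih]
    rfl

variable {p}

lemma H_mulN (n : ℕ) (c : Sheaf.H (UnitsSh.unitsAb Y) 1) : Sheaf.H.map (mulN Y n) 1 c = n • c := by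
  induction n with
  | zero =>
    rw [mulN, zero_nsmul, zero_nsmul, Sheaf.H.map_apply, Abelian.Ext.mk₀_zero]
    exact Abelian.Ext.comp_zero (Y := UnitsSh.unitsAb Y) c _ 0 _ (add_zero 1)
  | succ n ih =>
    rw [mulN, succ_nsmul, succ_nsmul, ← ih, Sheaf.H.map_apply, Sheaf.H.map_apply, Abelian.Ext.mk₀_add,
      Abelian.Ext.comp_add]
    exact congrArg₂ (· + ·) rfl (Abelian.Ext.comp_mk₀_id c)

variable (hp : p.Prime) (hp2 : 2 < p) {N : ℕ} (hN : (p : Γ(Y, ⊤)) ^ N = 0)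

include hN in
lemma cast_pow_eq_zero (W : Y.Opens) : (p : Γ(Y, W)) ^ N = 0 := by
  have h := congrArg (Y.presheaf.map (homOfLE (le_top : W ≤ ⊤)).op).hom hN
  rwa [map_pow, map_natCast, map_zero] at h

include hN in
lemma epi_comap_of_cut {Z : Scheme.{u}} {i : Z ⟶ Y} {s : ℕ} (hs : 0 < s) (hi : Cut p i s) :
    Epi (UnitsSh.comap i) := by
  refine epi_comap i hi.surj fun W hW a ha => ?_
  obtain ⟨c, rfl⟩ := (hi.ker W hW a).1 ha
  exact (Commute.all _ _).isNilpotent_mul_right (IsNilpotent.pow_of_pos ⟨N, cast_pow_eq_zero hN W⟩ hs.ne')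

include hp hp2 in
lemma pow_comp_eq_zero {Z Z' : Scheme.{u}} {i : Z ⟶ Y} {i' : Z' ⟶ Y} {s e : ℕ} (hi : Cut p i (s + 1))
    (hi' : Cut p i' (s + 1 + e)) :
    (kernel.ι (UnitsSh.comap i) ≫ mulN Y (p ^ e)) ≫ UnitsSh.comap i' = 0 := by
  apply Sheaf.hom_ext
  ext U a
  change ((UnitsSh.comap i').hom.app U).hom (((mulN Y (p ^ e)).hom.app U).hom
    (((kernel.ι (UnitsSh.comap i)).hom.app U).hom a)) = 0
  refine (comap_eq_zero_iff i' (U := U.unop) _).2 ?_
  let s₀ : (UnitsSh.unitsAb Y).obj.obj (op U.unop) := ((kernel.ι (UnitsSh.comap i)).hom.app U).hom a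
  have h0 : i.app U.unop (val s₀ - 1) = 0 :=
    (comap_eq_zero_iff i (U := U.unop) _).1 (kernel_ι_app_zero (UnitsSh.comap i) U.unop a)
  change i'.app U.unop (val (((mulN Y (p ^ e)).hom.app (op U.unop)).hom s₀) - 1) = 0
  rw [mulN_app, val_nsmul]
  refine Step.app_eq_zero_of_affine i' _ fun W hW hWa => ?_
  obtain ⟨c, hc⟩ := (hi.ker W hWa _).1 (Step.app_eq_zero_res i hW h0)
  rw [map_sub, map_pow, map_one]
  rw [map_sub, map_one, sub_eq_iff_eq_add, add_comm] at hc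
  obtain ⟨x, hx⟩ := exists_pow_form hp hp2 e s c
  rw [hc, hx, add_sub_cancel_left]
  exact (hi'.ker W hWa _).2 ⟨x, rfl⟩

/-- Powers between kernels. -/
def powK {Z Z' : Scheme.{u}} {i : Z ⟶ Y} {i' : Z' ⟶ Y} {s e : ℕ} (hi : Cut p i (s + 1))
    (hi' : Cut p i' (s + 1 + e)) : K i ⟶ K i' :=
  kernel.lift _ (kernel.ι (UnitsSh.comap i) ≫ mulN Y (p ^ e)) (pow_comp_eq_zero hp hp2 hi hi')

lemma powK_ι {Z Z' : Scheme.{u}} {i : Z ⟶ Y} {i' : Z' ⟶ Y} {s e : ℕ} (hi : Cut p i (s + 1))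
    (hi' : Cut p i' (s + 1 + e)) :
    powK hp hp2 hi hi' ≫ kernel.ι (UnitsSh.comap i') = kernel.ι (UnitsSh.comap i) ≫ mulN Y (p ^ e) :=
  kernel.lift_ι _ _ _

include hN in
lemma epi_powK {Z Z' : Scheme.{u}} {i : Z ⟶ Y} {i' : Z' ⟶ Y} {s e : ℕ} (hi : Cut p i (s + 1))
    (hi' : Cut p i' (s + 1 + e)) : Epi (powK hp hp2 hi hi') := by
  refine epi_of_locally _ fun U t x hx => ?_
  obtain ⟨W, hW, hxW, hWU⟩ := exists_affine (X := Y) hx
  let t' := rs (K i') hWU t
  let t₀ := ((kernel.ι (UnitsSh.comap i')).hom.app (op W)).hom t'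
  obtain ⟨c, hc⟩ := (hi'.ker W hW _).1 ((comap_eq_zero_iff i' t₀).1 (kernel_ι_app_zero _ _ t'))
  rw [sub_eq_iff_eq_add, add_comm] at hc
  obtain ⟨y, hy⟩ := exists_root_iter hp hp2 (cast_pow_eq_zero hN W) e s c
  have hu : IsUnit (1 + (p : Γ(Y, W)) ^ (s + 1) * y) :=
    ((Commute.all _ _).isNilpotent_mul_right
      (IsNilpotent.pow_of_pos ⟨N, cast_pow_eq_zero hN W⟩ s.succ_ne_zero)).isUnit_one_add
  obtain ⟨a, ha⟩ := exists_kernel_section (UnitsSh.comap i) W (UnitsSh.sectOfUnit hu.unit) (by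
    rw [comap_eq_zero_iff]
    change i.app W (1 + (p : Γ(Y, W)) ^ (s + 1) * y - 1) = 0
    rw [add_sub_cancel_left]
    exact (hi.ker W hW _).2 ⟨y, rfl⟩)
  refine ⟨W, hWU, hxW, a, kernel_ι_injective _ _ ?_⟩
  change ((powK hp hp2 hi hi' ≫ kernel.ι _).hom.app (op W)).hom a = t₀
  rw [powK_ι]
  change ((mulN Y (p ^ e)).hom.app (op W)).hom (((kernel.ι (UnitsSh.comap i)).hom.app (op W)).hom a) = t₀
  rw [ha, mulN_app]
  apply val_injective
  rw [val_nsmul, hc]
  exact hy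

variable [NoetherianSpace Y] (hdim : topologicalKrullDim Y ≤ 1)

include hdim in
lemma subsingleton_H2 (F : CohTop.Ab Y.toTopCat) : Subsingleton (Sheaf.H F 2) :=
  haveI : NoetherianSpace Y.toTopCat := ‹NoetherianSpace Y›
  Groth.Agent.S0458.result 1 (by exact_mod_cast hdim) F 2 one_lt_two

include hN hdim in
theorem pic_surjective [PicGrp.Law Y] {Z : Scheme.{u}} [PicGrp.Law Z] (i : Z ⟶ Y) [IsClosedImmersion i] {s : ℕ}
    (hs : 0 < s) (hi : Cut p i s) (h : PicGrp.PullMul i) : Function.Surjective (PicGrp.pullHom i h) := by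
  intro z
  haveI := epi_comap_of_cut hN hs hi
  have hS : (ShortComplex.mk (kernel.ι (UnitsSh.comap i)) (UnitsSh.comap i) (kernel.condition _)).ShortExact :=
    ShortComplex.ShortExact.mk' (ShortComplex.exact_kernel _) inferInstance inferInstance
  obtain ⟨b, hb⟩ := (psi_bijective i).2 (Additive.ofMul z)
  obtain ⟨c, hc⟩ := surjective_H_map (n := 1) hS (subsingleton_H2 hdim (K i)) b
  refine ⟨(psiX Y c).toMul, ?_⟩
  rw [← psi_comap i h c, hc, hb]
  rfl

include hp hp2 hN hdim in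
theorem exists_root_in_ker [PicGrp.Law Y] {Z Z' : Scheme.{u}} [PicGrp.Law Z] [PicGrp.Law Z'] (i : Z ⟶ Y)
    (i' : Z' ⟶ Y) [IsClosedImmersion i'] {s e : ℕ} (hi : Cut p i (s + 1))
    (hi' : Cut p i' (s + 1 + e)) (h : PicGrp.PullMul i) (h' : PicGrp.PullMul i') (x : PicLoc.PicSet Y)
    (hx : PicGrp.pullHom i' h' x = 1) :
    ∃ d : PicLoc.PicSet Y, PicGrp.pullHom i h d = 1 ∧ d ^ (p ^ e) = x := by
  obtain ⟨c, hc⟩ := (psiX_bijective Y).2 (Additive.ofMul x)
  have h0 : Sheaf.H.map (UnitsSh.comap i') 1 c = 0 := by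
    refine (psi_bijective i').1 ?_
    apply Additive.toMul.injective
    rw [map_zero, psi_comap i' h' c, hc]
    exact hx
  haveI := epi_comap_of_cut hN (Nat.lt_of_lt_of_le s.succ_pos (Nat.le_add_right _ e)) hi'
  have hS : (ShortComplex.mk (kernel.ι (UnitsSh.comap i')) (UnitsSh.comap i') (kernel.condition _)).ShortExact :=
    ShortComplex.ShortExact.mk' (ShortComplex.exact_kernel _) inferInstance inferInstance
  obtain ⟨k, hk⟩ := LES.exact₂ hS 1 c h0
  haveI := epi_powK hp hp2 hN hi hi'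
  have hS' : (ShortComplex.mk (kernel.ι (powK hp hp2 hi hi')) (powK hp hp2 hi hi') (kernel.condition _)).ShortExact :=
    ShortComplex.ShortExact.mk' (ShortComplex.exact_kernel _) inferInstance inferInstance
  obtain ⟨l, hl⟩ := surjective_H_map (n := 1) hS' (subsingleton_H2 hdim _) k
  let m := Sheaf.H.map (kernel.ι (UnitsSh.comap i)) 1 l
  refine ⟨(psiX Y m).toMul, ?_, ?_⟩
  · rw [← psi_comap i h m, ← Sheaf.H.map_comp_apply, kernel.condition, Sheaf.H.map_apply,
      Abelian.Ext.mk₀_zero]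
    refine congrArg Additive.toMul ((congrArg (psi i) ?_).trans (map_zero _))
    exact Abelian.Ext.comp_zero (Y := K i) l _ 0 _ (add_zero 1)
  · have e1 : (p ^ e) • m = c := by
      rw [← H_mulN, ← Sheaf.H.map_comp_apply, ← powK_ι hp hp2 hi hi', Sheaf.H.map_comp_apply]
      exact (congrArg _ hl).trans hk
    rw [← toMul_nsmul, ← map_nsmul, e1, hc]
    rfl

end Groth.Agent.PicThk19
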